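import Groth.Agent.SerreDual.Colim
import Groth.Agent.FlatMorStrat.QcqsColim

/-!
# Cohomology of compact quasi-separated opens commutes with filtered colimits
-/

set_option autoImplicit false
set_option backward.isDefEq.respectTransparency false
set_option linter.style.haveILetI false

universe u

open CategoryTheory CategoryTheory.Limits Opposite TopologicalSpace
open Groth.Agent.ToposFinLib Groth.Agent.CohColim

namespace Groth.Agent.QcqsColim14

variable (T : TopCat.{u})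

local notation "Jop" => Opens.grothendieckTopology T

/-- The class of sheaves represented by compact opens. -/
def CompactObj (K : ToposFin.Sh Jop) : Prop :=
  ∃ U : Opens T, (IsCompact (U : Set T) ∧ IsQuasiSeparated (U : Set T)) ∧ Nonempty (K ≅ ToposFin.eps Jop U)

/-- `T` has a basis of compact quasi-separated opens. -/
def HasQcqsBasis : Prop := ∀ (V : Opens T), ∀ y ∈ V, ∃ W : Opens T,
  IsCompact (W : Set T) ∧ IsQuasiSeparated (W : Set T) ∧ y ∈ W ∧ W ≤ V

theorem le_of_hom {V U : Opens T} (s : ToposFin.eps Jop V ⟶ ToposFin.eps Jop U) : V ≤ U := by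
  obtain ⟨S, hS, h⟩ := exists_cover_representable s
  intro y hy
  obtain ⟨W, f, hf, hyW⟩ := hS y hy
  obtain ⟨g, -⟩ := h f hf
  exact leOfHom g hyW

variable {T} (hB : HasQcqsBasis T)
include hB

theorem gen_compactObj : Gen (J := Jop) (CompactObj T) := by
  intro X
  obtain ⟨ι, F, π, hF, hπ⟩ := gen_eps (J := Jop) X
  choose V hV using hF
  let I := Σ k : ι, {W : Opens T // (IsCompact (W : Set T) ∧ IsQuasiSeparated (W : Set T)) ∧ W ≤ V k}
  refine ⟨I, fun p => ToposFin.eps Jop p.2.1,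
    fun p => (epsF Jop).map (homOfLE p.2.2.2) ≫ eqToHom (hV p.1).symm ≫ π p.1,
    fun p => ⟨p.2.1, p.2.2.1, ⟨Iso.refl _⟩⟩, fun Z a b hab => hπ Z a b fun k => ?_⟩
  have hcov : EFam (J := Jop) (X := ToposFin.eps Jop (V k))
      (fun p : {W : Opens T // (IsCompact (W : Set T) ∧ IsQuasiSeparated (W : Set T)) ∧ W ≤ V k} => (epsF Jop).map (homOfLE p.2.2)) := by
    refine (efam_eps_iff (fun p : {W : Opens T // (IsCompact (W : Set T) ∧ IsQuasiSeparated (W : Set T)) ∧ W ≤ V k} => p.1)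
      (fun p => homOfLE p.2.2)).2 fun y hy => ?_
    obtain ⟨W, hWc, hWq, hyW, hWV⟩ := hB (V k) y hy
    exact ⟨W, homOfLE hWV,
      (Sieve.mem_ofArrows_iff _ _ _).2 ⟨⟨W, ⟨hWc, hWq⟩, hWV⟩, 𝟙 _, Subsingleton.elim _ _⟩, hyW⟩
  rw [← cancel_epi (eqToHom (hV k).symm)]
  exact hcov Z _ _ fun p => by simpa using hab ⟨k, p⟩

theorem cls_compactObj : Cls (CompactObj T) (Glued (CompactObj T)) := by
  refine cls_of_gen ?_ (gen_compactObj hB) ?_
  · rintro K ⟨U, hU, ⟨e⟩⟩
    exact isQC_of_iso e.symm ((isQC_eps_iff U).2 (FlatMorStrat.isQCSite_compact T hU.1))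
  · rintro K A B f g ⟨U, hU, ⟨eK⟩⟩ ⟨V, hV, ⟨eA⟩⟩ ⟨W, hW, ⟨eB⟩⟩
    let m : ToposFin.eps Jop U ⟶ ToposFin.eps Jop (⊤ : Opens T) := (epsF Jop).map (homOfLE le_top)
    haveI : Mono m := (epsF Jop).map_mono (homOfLE (le_top : U ≤ ⊤))
    have hP : IsPullback (homOfLE (inf_le_left : V ⊓ W ≤ V)) (homOfLE (inf_le_right : V ⊓ W ≤ W))
        (homOfLE (le_top : V ≤ ⊤)) (homOfLE (le_top : W ≤ ⊤)) :=
      IsPullback.of_isLimit' ⟨Subsingleton.elim _ _⟩ (PullbackCone.IsLimit.mk _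
        (fun s => homOfLE (le_inf (leOfHom s.fst) (leOfHom s.snd))) (fun s => Subsingleton.elim _ _)
        (fun s => Subsingleton.elim _ _) fun s l _ _ => Subsingleton.elim _ _)
    have hQ := hP.map (epsF Jop)
    refine ⟨ToposFin.eps Jop (V ⊓ W), (epsF Jop).map (homOfLE inf_le_left) ≫ eA.inv,
      (epsF Jop).map (homOfLE inf_le_right) ≫ eB.inv, ⟨V ⊓ W, ⟨hU.2 _ _ (le_of_hom T (eA.inv ≫ f ≫ eK.hom)) V.2 hV.1 (le_of_hom T (eB.inv ≫ g ≫ eK.hom)) W.2 hW.1,
      hV.2.of_subset (Set.inter_subset_left)⟩, ⟨Iso.refl _⟩⟩, ?_⟩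
    have hf : eA.inv ≫ f ≫ eK.hom ≫ m = (epsF Jop).map (homOfLE le_top) := (SerreDual.epsTopTerminal T).hom_ext _ _
    have hg : eB.inv ≫ g ≫ eK.hom ≫ m = (epsF Jop).map (homOfLE le_top) := (SerreDual.epsTopTerminal T).hom_ext _ _
    have hmain : IsPullback ((epsF Jop).map (homOfLE (inf_le_left : V ⊓ W ≤ V)) ≫ eA.inv)
        ((epsF Jop).map (homOfLE (inf_le_right : V ⊓ W ≤ W)) ≫ eB.inv)
        (f ≫ eK.hom ≫ m) (g ≫ eK.hom ≫ m) :=
      hQ.of_iso (Iso.refl _) eA.symm eB.symm (Iso.refl _) (by simp) (by simp)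
        (by simpa using hf.symm) (by simpa using hg.symm)
    exact IsPullback.of_isLimit' ⟨(cancel_mono (eK.hom ≫ m)).1 (by simpa using hmain.w)⟩
      (PullbackCone.IsLimit.mk _
        (fun s => hmain.lift s.fst s.snd (by rw [reassoc_of% s.condition]))
        (fun s => hmain.lift_fst _ _ _) (fun s => hmain.lift_snd _ _ _)
        fun s l h₁ h₂ => hmain.hom_ext (by rw [hmain.lift_fst]; exact h₁) (by rw [hmain.lift_snd]; exact h₂))

/-- Cohomology of a compact open commutes with filtered colimits. -/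
theorem preservesFilteredColimits_HAt {U : Opens T} (hU : IsCompact (U : Set T)) (hU' : IsQuasiSeparated (U : Set T))
    (Λ : Type u) [SmallCategory Λ] [IsFiltered Λ] (q : ℕ) :
    PreservesColimitsOfShape Λ ((Sheaf.cohomologyPresheafFunctor.{u} Jop q).flip.obj (op U) :
      Sheaf Jop AddCommGrpCat.{u} ⥤ AddCommGrpCat.{u}) :=
  (cls_compactObj hB).preservesColimitsOfShape_cohomologyPresheaf Λ
    (V := U) ⟨U, ⟨hU, hU'⟩, ⟨Iso.refl _⟩⟩ q


end Groth.Agent.QcqsColim14
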